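import Groth.Agent.AWN.Normal

/-!
# Descent of functions to seminormal schemes along universally closed surjections
-/

set_option autoImplicit false
set_option backward.isDefEq.respectTransparency false

universe u

open CategoryTheory Limits AlgebraicGeometry TensorProduct

namespace Groth.Agent.SemiNormDesc

open Groth.Agent.AWN

theorem mem_range_of_tmul_one_eq {k L : Type u} [Field k] [Field L] [Algebra k L] {σ : L}
    (h : σ ⊗ₜ[k] (1 : L) = (1 : L) ⊗ₜ[k] σ) : σ ∈ Set.range (algebraMap k L) := by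
  obtain ⟨f, hf⟩ := (Algebra.linearMap k L).exists_leftInverse_of_injective
    (LinearMap.ker_eq_bot.mpr (algebraMap k L).injective)
  have hf1 : f 1 = 1 := by simpa using LinearMap.congr_fun hf 1
  have := congrArg (fun z => TensorProduct.rid k L (f.lTensor L z)) h
  simp only [LinearMap.lTensor_tmul, TensorProduct.rid_tmul, hf1, one_smul] at this
  exact ⟨f σ, (Algebra.algebraMap_eq_smul_one _).trans this.symm⟩

theorem n_of_equiv {sn : Prop} {A B : Type u} [CommRing A] [CommRing B] (e : A ≃+* B) (hA : N sn A) :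
    N sn B := by
  refine Cl.n ⟨(letI := isReduced_of_seminormal hA.1; isReduced_of_injective e.symm e.symm.injective),
    fun C _ φ hφ hC => ?_⟩
  have hc2 : CondHom sn (Spec.map (CommRingCat.ofHom (φ.comp e.toRingHom))) := by
    rw [CommRingCat.ofHom_comp, Spec.map_comp]
    haveI : IsIso (CommRingCat.ofHom e.toRingHom) := (e.toCommRingCatIso).isIso_hom
    exact hφ.comp (condHom_of_isIso _)
  exact (Function.Bijective.of_comp_iff φ e.bijective).mp (hA.cl.2 C _ hc2 hC)

variable {X Y : Scheme.{u}} (π : Y ⟶ X)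

theorem app_injective [IsReduced X] [Surjective π] (U : X.Opens) : Function.Injective (π.app U) := by
  intro a b h
  rw [← sub_eq_zero]
  refine eq_zero_of_basicOpen_eq_bot _ (TopologicalSpace.Opens.ext ?_)
  refine Set.eq_empty_iff_forall_notMem.mpr fun x hx => ?_
  obtain ⟨y, rfl⟩ := π.surjective x
  have : y ∈ π ⁻¹ᵁ X.basicOpen (a - b) := hx
  rw [Scheme.preimage_basicOpen, map_sub, h, sub_self] at this
  simp at this

theorem ker_eq (y : Y) :
    (Y.toSpecΓ y).asIdeal = RingHom.ker (Y.Γevaluation y).hom := by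
  ext r
  rw [RingHom.mem_ker]
  have h1 : y ∈ Y.toSpecΓ ⁻¹ᵁ PrimeSpectrum.basicOpen r ↔ y ∈ Y.basicOpen r := by
    rw [Scheme.toSpecΓ_preimage_basicOpen]
  rw [show (Y.Γevaluation y).hom r = 0 ↔ y ∉ Y.basicOpen r from
    Y.evaluation_eq_zero_iff_notMem_basicOpen (U := ⊤) y trivial r, ← h1]
  exact ⟨fun h h' => h' h, fun h => not_not.mp h⟩

theorem toSpecΓ_surjective [IsAffine X] [UniversallyClosed π] [IsReduced Y] :
    Function.Surjective Y.toSpecΓ := by
  have : CompactSpace Y := (quasiCompact_iff_compactSpace π).mp inferInstance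
  have : UniversallyClosed (Y.toSpecΓ ≫ Spec.map π.appTop) := by
    rw [← Scheme.toSpecΓ_naturality,
      MorphismProperty.cancel_right_of_respectsIso (P := @UniversallyClosed)]
    infer_instance
  have : UniversallyClosed Y.toSpecΓ := .of_comp_of_isSeparated _ (Spec.map π.appTop)
  intro q
  by_contra hq
  obtain ⟨U, ⟨r, rfl⟩, hqr, hrU⟩ :=
    PrimeSpectrum.isTopologicalBasis_basic_opens.exists_subset_of_mem_open
      (show q ∈ (Set.range Y.toSpecΓ)ᶜ from hq) Y.toSpecΓ.isClosedMap.isClosed_range.isOpen_compl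
  have h0 : r = 0 := by
    refine eq_zero_of_basicOpen_eq_bot _ (TopologicalSpace.Opens.ext ?_)
    refine Set.eq_empty_iff_forall_notMem.mpr fun y hy => hrU ?_ ⟨y, rfl⟩
    have : y ∈ Y.toSpecΓ ⁻¹ᵁ PrimeSpectrum.basicOpen r := by
      rw [Scheme.toSpecΓ_preimage_basicOpen]; exact hy
    exact this
  subst h0
  exact hqr (Ideal.zero_mem _)

theorem ev_mem_range (s : Γ(Y, ⊤)) (hs : (pullback.fst π π).appTop s = (pullback.snd π π).appTop s) (y : Y) :
    Y.Γevaluation y s ∈ Set.range (π.residueFieldMap y) := by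
  letI : Algebra (X.residueField (π y)) (Y.residueField y) := (π.residueFieldMap y).hom.toAlgebra
  let L := Y.residueField y
  let k := X.residueField (π y)
  let a : Spec (CommRingCat.of (L ⊗[k] L)) ⟶ Y :=
    Spec.map (CommRingCat.ofHom Algebra.TensorProduct.includeLeftRingHom) ≫ Y.fromSpecResidueField y
  let b : Spec (CommRingCat.of (L ⊗[k] L)) ⟶ Y :=
    Spec.map (CommRingCat.ofHom Algebra.TensorProduct.includeRight.toRingHom) ≫ Y.fromSpecResidueField y
  have hab : a ≫ π = b ≫ π := by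
    simp only [a, b, Category.assoc]
    rw [← π.SpecMap_residueFieldMap_fromSpecResidueField, ← Category.assoc, ← Category.assoc, ← Spec.map_comp,
      ← Spec.map_comp]
    congr 2
    ext c
    exact Algebra.TensorProduct.tmul_one_eq_one_tmul c
  have h2 : a.appTop s = b.appTop s := by
    rw [← pullback.lift_fst a b hab, Scheme.Hom.comp_appTop]
    conv_rhs => rw [← pullback.lift_snd a b hab, Scheme.Hom.comp_appTop]
    simp only [CommRingCat.comp_apply, hs]
  refine mem_range_of_tmul_one_eq ?_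
  have h3 : ∀ (f : L →+* L ⊗[k] L),
      (Scheme.ΓSpecIso _).hom ((Spec.map (CommRingCat.ofHom f) ≫ Y.fromSpecResidueField y).appTop s) =
        f (Y.Γevaluation y s) := fun f => by
    rw [Scheme.Hom.comp_appTop, CommRingCat.comp_apply, ← CommRingCat.comp_apply,
      Scheme.ΓSpecIso_naturality, CommRingCat.comp_apply]
    congr 1
    have h4 : (Y.fromSpecResidueField y).appTop ≫ (Scheme.ΓSpecIso _).hom = Y.Γevaluation y := by
      rw [Scheme.fromSpecResidueField, Scheme.Hom.comp_appTop, Category.assoc]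
      rw [Scheme.fromSpecStalk_appTop]
      simp [Scheme.evaluation, Scheme.Γevaluation]
    exact congrArg (fun m => m.hom s) h4
  have := congrArg (Scheme.ΓSpecIso _).hom h2
  rw [h3, h3] at this
  simpa using this

/-- Descent for affine targets. -/
theorem exists_appTop_eq [IsAffine X] (hA : N True Γ(X, ⊤)) [UniversallyClosed π] [Surjective π]
    [IsReduced X] [IsReduced Y] (s : Γ(Y, ⊤))
    (hs : (pullback.fst π π).appTop s = (pullback.snd π π).appTop s) :
    ∃ t, π.appTop t = s := by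
  let φ := π.appTop.hom
  letI : Algebra Γ(X, ⊤) Γ(Y, ⊤) := φ.toAlgebra
  haveI : Algebra.IsIntegral Γ(X, ⊤) Γ(Y, ⊤) := ⟨isIntegral_appTop_of_universallyClosed π⟩
  let B : Subalgebra Γ(X, ⊤) Γ(Y, ⊤) := Algebra.adjoin _ {s}
  haveI : Algebra.IsIntegral B Γ(Y, ⊤) := Algebra.IsIntegral.tower_top Γ(X, ⊤)
  haveI : Algebra.IsIntegral Γ(X, ⊤) B :=
    ⟨fun b => (isIntegral_algHom_iff B.val Subtype.val_injective).mp (Algebra.IsIntegral.isIntegral _)⟩
  have hinj : Function.Injective φ := app_injective π ⊤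
  have hlie : ∀ q : PrimeSpectrum B, ∃ y : Y, q.asIdeal = RingHom.ker ((Y.Γevaluation y).hom.comp B.subtype) := by
    intro q
    obtain ⟨Q, hQ⟩ := Algebra.IsIntegral.comap_surjective (↥B) (Γ(Y, ⊤)) q
    obtain ⟨y, rfl⟩ := toSpecΓ_surjective π Q
    refine ⟨y, ?_⟩
    rw [← hQ, ← RingHom.comap_ker, ← ker_eq]
    rfl
  have hres : ∀ (y : Y), ∀ b : B, ∃ r, π.residueFieldMap y r = Y.Γevaluation y b.1 := by
    intro y b
    have hle : B ≤ (({ toSubsemiring := ((π.residueFieldMap y).hom.range.comap (Y.Γevaluation y).hom).toSubsemiring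
                       algebraMap_mem' := fun a => ⟨_, Scheme.Γevaluation_naturality_apply π y a⟩ } :
        Subalgebra Γ(X, ⊤) Γ(Y, ⊤))) :=
      Algebra.adjoin_le (by simpa using ev_mem_range π s hs y)
    exact hle b.2
  have htwo : ∀ y y' : Y, π y = π y' → ∀ b : B,
      Y.Γevaluation y b.1 = 0 → Y.Γevaluation y' b.1 = 0 := by
    intro y y' h b hb
    obtain ⟨z, hz1, hz2⟩ := Scheme.Pullback.exists_preimage_pullback y y' h
    subst hz1 hz2
    have hb2 : (pullback.fst π π).appTop b.1 = (pullback.snd π π).appTop b.1 := by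
      refine Algebra.adjoin_induction (p := fun x _ => (pullback.fst π π).appTop x = (pullback.snd π π).appTop x)
        (by simpa using hs) (fun a => ?_) (fun _ _ _ _ h1 h2 => by simp [h1, h2])
        (fun _ _ _ _ h1 h2 => by simp [h1, h2]) b.2
      show (π.appTop ≫ (pullback.fst π π).appTop) a = (π.appTop ≫ (pullback.snd π π).appTop) a
      rw [← Scheme.Hom.comp_appTop, ← Scheme.Hom.comp_appTop, pullback.condition]
    refine ((pullback.snd π π).residueFieldMap z).hom.injective ?_
    rw [map_zero, Scheme.Γevaluation_naturality_apply, ← hb2, ← Scheme.Γevaluation_naturality_apply, hb, map_zero]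
  have hfrac : ∀ (q : PrimeSpectrum B) (b : B), ∃ c e : Γ(X, ⊤),
      algebraMap _ B e ∉ q.asIdeal ∧ algebraMap _ B e * b - algebraMap _ B c ∈ q.asIdeal := by
    intro q b
    obtain ⟨y, hy⟩ := hlie q
    obtain ⟨r, hr⟩ := hres y b
    let P : PrimeSpectrum Γ(X, ⊤) := X.isoSpec.hom (π y)
    obtain ⟨c, e, he, hce⟩ : ∃ c e, X.Γevaluation (π y) e ≠ 0 ∧ X.Γevaluation (π y) c = X.Γevaluation (π y) e * r := by
      obtain ⟨r', rfl⟩ := IsLocalRing.residue_surjective (R := X.presheaf.stalk (π y)) r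
      letI : Algebra Γ(X, ⊤) (X.presheaf.stalk (π y)) := (X.presheaf.germ ⊤ (π y) trivial).hom.toAlgebra
      haveI := (isAffineOpen_top X).isLocalization_stalk ⟨π y, trivial⟩
      obtain ⟨c, e, hce⟩ := IsLocalization.exists_mk'_eq
        ((isAffineOpen_top X).primeIdealOf ⟨π y, trivial⟩).asIdeal.primeCompl r'
      refine ⟨c, e, ?_, ?_⟩
      · show IsLocalRing.residue _ (algebraMap Γ(X, ⊤) (X.presheaf.stalk (π y)) e) ≠ 0
        rw [Ne, IsLocalRing.residue_eq_zero_iff]
        exact fun hm => hm (IsLocalization.map_units _ e)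
      · show IsLocalRing.residue _ (algebraMap Γ(X, ⊤) (X.presheaf.stalk (π y)) c) =
          IsLocalRing.residue _ (algebraMap Γ(X, ⊤) (X.presheaf.stalk (π y)) e) * IsLocalRing.residue _ r'
        rw [← map_mul, ← hce, IsLocalization.mk'_spec']
    refine ⟨c, e, ?_, ?_⟩
    · rw [hy, RingHom.mem_ker]
      show Y.Γevaluation y (π.appTop e) ≠ 0
      rw [← Scheme.Γevaluation_naturality_apply]
      exact fun h => he ((π.residueFieldMap y).hom.injective (h.trans (map_zero _).symm))
    · rw [hy, RingHom.mem_ker, map_sub, map_mul, sub_eq_zero]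
      show Y.Γevaluation y (π.appTop e) * Y.Γevaluation y b.1 = Y.Γevaluation y (π.appTop c)
      rw [← Scheme.Γevaluation_naturality_apply, ← Scheme.Γevaluation_naturality_apply, hce, map_mul, hr]
  have hprime : ∀ q q' : PrimeSpectrum B,
      PrimeSpectrum.comap (algebraMap Γ(X, ⊤) B) q = PrimeSpectrum.comap (algebraMap Γ(X, ⊤) B) q' → q = q' := by
    intro q q' h
    obtain ⟨y, hy⟩ := hlie q
    obtain ⟨y', hy'⟩ := hlie q'
    have hxy : π y = π y' := by
      apply (ConcreteCategory.bijective_of_isIso X.toSpecΓ.base).1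
      refine PrimeSpectrum.ext ?_
      show (X.toSpecΓ (π y)).asIdeal = (X.toSpecΓ (π y')).asIdeal
      have key : ∀ w : Y, (X.toSpecΓ (π w)).asIdeal = RingHom.ker ((Y.Γevaluation w).hom.comp φ) := fun w => by
        rw [ker_eq]
        ext a
        simp only [RingHom.mem_ker]
        show _ ↔ Y.Γevaluation w (π.appTop a) = 0
        rw [← Scheme.Γevaluation_naturality_apply]
        exact (map_eq_zero_iff _ (π.residueFieldMap w).hom.injective).symm
      rw [key, key]
      have h1 := congrArg PrimeSpectrum.asIdeal h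
      simp only [PrimeSpectrum.comap_asIdeal, hy, hy', RingHom.comap_ker] at h1
      exact h1
    refine PrimeSpectrum.ext (le_antisymm ?_ ?_) <;> intro b hb
    · rw [hy, RingHom.mem_ker] at hb; rw [hy', RingHom.mem_ker]; exact htwo y y' hxy b hb
    · rw [hy', RingHom.mem_ker] at hb; rw [hy, RingHom.mem_ker]; exact htwo y' y hxy.symm b hb
  haveI : FaithfulSMul Γ(X, ⊤) B := (faithfulSMul_iff_algebraMap_injective _ _).mpr
    fun a a' h => hinj (congrArg Subtype.val h)
  have hc : CondHom True (Spec.map (CommRingCat.ofHom (algebraMap Γ(X, ⊤) B))) := by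
    refine (condHom_spec_iff _).mpr ⟨Algebra.IsIntegral.isIntegral, ⟨fun K _ g g' hgg => ?_, fun _ K _ g b => ?_⟩,
      Algebra.IsIntegral.comap_surjective Γ(X, ⊤) ↥B⟩
    · have hq : (⟨RingHom.ker g, RingHom.ker_isPrime g⟩ : PrimeSpectrum B) = ⟨RingHom.ker g', RingHom.ker_isPrime g'⟩ :=
        hprime _ _ (PrimeSpectrum.ext (by
          simp only [PrimeSpectrum.comap_asIdeal, RingHom.comap_ker, hgg]))
      refine RingHom.ext fun b => ?_
      obtain ⟨c, e, he, hce⟩ := hfrac ⟨RingHom.ker g, RingHom.ker_isPrime g⟩ b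
      have he' : g (algebraMap _ B e) ≠ 0 := fun h => he (RingHom.mem_ker.mpr h)
      have hk : RingHom.ker g = RingHom.ker g' := congrArg PrimeSpectrum.asIdeal hq
      have h2 : algebraMap _ B e * b - algebraMap _ B c ∈ RingHom.ker g' := hk ▸ hce
      simp only [RingHom.mem_ker, map_sub, map_mul, sub_eq_zero] at hce h2
      rw [show g' (algebraMap _ B e) = g (algebraMap _ B e) from (RingHom.congr_fun hgg e).symm,
        show g' (algebraMap _ B c) = g (algebraMap _ B c) from (RingHom.congr_fun hgg c).symm] at h2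
      exact mul_left_cancel₀ he' (hce.trans h2.symm)
    · obtain ⟨c, e, he, hce⟩ := hfrac ⟨RingHom.ker g, RingHom.ker_isPrime g⟩ b
      have he' : g (algebraMap _ B e) ≠ 0 := fun h => he (RingHom.mem_ker.mpr h)
      simp only [RingHom.mem_ker, map_sub, map_mul, sub_eq_zero] at hce
      rw [show g b = g (algebraMap _ B c) / g (algebraMap _ B e) by
        rw [eq_div_iff he', mul_comm, hce]]
      exact div_mem (Subfield.subset_closure ⟨c, rfl⟩) (Subfield.subset_closure ⟨e, rfl⟩)
  haveI : _root_.IsReduced B := isReduced_of_injective B.subtype Subtype.val_injective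
  obtain ⟨t, ht⟩ := (hA.cl.2 B _ hc inferInstance).2 ⟨s, Algebra.self_mem_adjoin_singleton _ s⟩
  exact ⟨t, congrArg Subtype.val ht⟩

/-- Descent on seminormal schemes. -/
theorem existsUnique_appTop_eq (hX : IsN True X) [UniversallyClosed π] [Surjective π] [IsReduced Y]
    (s : Γ(Y, ⊤)) (hs : (pullback.fst π π).appTop s = (pullback.snd π π).appTop s) :
    ∃! t, π.appTop t = s := by
  haveI := hX.isReduced
  let ι := X.affineOpens
  have hloc : ∀ U : ι, ∃ t : Γ(X, U.1), π.app U.1 t = Y.presheaf.map (homOfLE le_top).op s := fun U => by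
    haveI : IsAffine U.1.toScheme := U.2
    haveI : IsReduced U.1.toScheme := isReduced_of_isOpenImmersion U.1.ι
    haveI : IsReduced (π ⁻¹ᵁ U.1).toScheme := isReduced_of_isOpenImmersion (π ⁻¹ᵁ U.1).ι
    haveI : Surjective (π ∣_ U.1) :=
      MorphismProperty.of_isPullback (isPullback_morphismRestrict π U.1).flip ‹Surjective π›
    let m := pullback.map (π ∣_ U.1) (π ∣_ U.1) π π (π ⁻¹ᵁ U.1).ι (π ⁻¹ᵁ U.1).ι U.1.ι
      (morphismRestrict_ι _ _) (morphismRestrict_ι _ _)
    have hm₁ : m ≫ pullback.fst π π = pullback.fst _ _ ≫ (π ⁻¹ᵁ U.1).ι := pullback.lift_fst _ _ _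
    have hm₂ : m ≫ pullback.snd π π = pullback.snd _ _ ≫ (π ⁻¹ᵁ U.1).ι := pullback.lift_snd _ _ _
    obtain ⟨t, ht⟩ := exists_appTop_eq (π ∣_ U.1)
      (n_of_equiv U.1.topIso.commRingCatIsoToRingEquiv.symm (isN_iff_forall_n.mp hX U))
      ((π ⁻¹ᵁ U.1).ι.appTop s) (by
        rw [← CommRingCat.comp_apply, ← CommRingCat.comp_apply, ← Scheme.Hom.comp_appTop,
          ← Scheme.Hom.comp_appTop, ← hm₁, ← hm₂, Scheme.Hom.comp_appTop, Scheme.Hom.comp_appTop,
          CommRingCat.comp_apply, CommRingCat.comp_apply, hs])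
    refine ⟨U.1.topIso.hom t, ?_⟩
    have h2 := congrArg (π ⁻¹ᵁ U.1).topIso.hom ht
    rw [← CommRingCat.comp_apply, ← CommRingCat.comp_apply] at h2
    rw [← CommRingCat.comp_apply]
    rw [show U.1.topIso.hom ≫ π.app U.1 = (π ∣_ U.1).appTop ≫ (π ⁻¹ᵁ U.1).topIso.hom by
      simp [Scheme.Hom.app_eq_appLE, Scheme.Hom.map_appLE, Scheme.Hom.appLE_map]]
    rw [h2]
    rw [show (π ⁻¹ᵁ U.1).ι.appTop ≫ (π ⁻¹ᵁ U.1).topIso.hom = Y.presheaf.map (homOfLE le_top).op by
      simp
      rw [← Functor.map_comp]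
      rfl]
  choose t ht using hloc
  have hcov : (⊤ : X.Opens) ≤ ⨆ U : ι, U.1 := fun x _ => by
    obtain ⟨_, ⟨U, hU, rfl⟩, hx, -⟩ :=
      X.isBasis_affineOpens.exists_subset_of_mem_open (Set.mem_univ x) isOpen_univ
    exact TopologicalSpace.Opens.mem_iSup.mpr ⟨⟨U, hU⟩, hx⟩
  obtain ⟨T, hT, -⟩ := X.sheaf.existsUnique_gluing' (fun U : ι => U.1) ⊤ (fun U => homOfLE le_top) hcov t (by
    intro U V
    apply app_injective π
    show (X.presheaf.map _ ≫ π.app _) (t U) = (X.presheaf.map _ ≫ π.app _) (t V)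
    rw [Scheme.Hom.naturality, Scheme.Hom.naturality, CommRingCat.comp_apply, CommRingCat.comp_apply, ht, ht,
      ← CommRingCat.comp_apply, ← CommRingCat.comp_apply, ← Functor.map_comp, ← Functor.map_comp]
    rfl)
  have hTs : π.appTop T = s := by
    refine Y.sheaf.eq_of_locally_eq' (fun U : ι => π ⁻¹ᵁ U.1) ⊤ (fun U => homOfLE le_top) ?_ _ _ fun U => ?_
    · intro y _
      obtain ⟨_, ⟨U, hU, rfl⟩, hy, -⟩ :=
        X.isBasis_affineOpens.exists_subset_of_mem_open (Set.mem_univ (π y)) isOpen_univ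
      exact TopologicalSpace.Opens.mem_iSup.mpr ⟨⟨U, hU⟩, hy⟩
    · refine Eq.trans ?_ (ht U)
      rw [← hT U]
      show (π.app ⊤ ≫ Y.presheaf.map _) T = (X.presheaf.map _ ≫ π.app U.1) T
      rw [Scheme.Hom.naturality]
      rfl
  exact ⟨T, hTs, fun T' hT' => app_injective π ⊤ (hT'.trans hTs.symm)⟩

end Groth.Agent.SemiNormDesc
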